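import Cfsg.Agent.H79.PP3.Red

/-!
# Part III of S3019: assembly
-/

set_option autoImplicit false
set_option linter.all false

namespace Cfsg.Agent.H79.PP3

open Subgroup Cfsg Cfsg.Agent.H31.PP

universe u

/-- Statement of Part II. -/
def StII (p : ℕ) : Prop :=
  ∀ (G : Type u) [Group G] [Finite G], MinS p G → ∀ (P : Sylow p G) (z : G), z ∈ (P : Subgroup G) → z ≠ 1 →
    z ^ p = 1 → (∀ x ∈ (P : Subgroup G), x * z = z * x) →
    (∃ g : G, g * z * g⁻¹ ∈ (P : Subgroup G) ∧ g * z * g⁻¹ ∉ zpowers z) → False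

/-- Statement of Part I (for odd `p`). -/
def StI (p : ℕ) : Prop :=
  ∀ (G : Type u) [Group G] [Finite G], MinS p G → ∀ (P : Sylow p G) (z : G) (B : Subgroup G),
    B ≤ (P : Subgroup G) → (∀ x ∈ (P : Subgroup G), ∀ b ∈ B, x * b * x⁻¹ ∈ B) → Nat.card B = p ^ 2 →
    ¬ IsCyclic B → z ∈ B → z ≠ 1 → (∀ x ∈ (P : Subgroup G), x * z = z * x) →
    (∀ g : G, g * z * g⁻¹ ∈ (P : Subgroup G) → g * z * g⁻¹ ∈ zpowers z) → False

/-- a central element of order `p` of a nontrivial Sylow subgroup -/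
theorem exists_z {G : Type u} [Group G] [Finite G] {p : ℕ} [hp : Fact p.Prime] (P : Sylow p G)
    (hP : (P : Subgroup G) ≠ ⊥) : ∃ z ∈ (P : Subgroup G), z ≠ 1 ∧ z ^ p = 1 ∧
      ∀ x ∈ (P : Subgroup G), x * z = z * x := by
  haveI : Nontrivial (P : Subgroup G) := (Subgroup.nontrivial_iff_ne_bot _).2 hP
  have h1 : Nontrivial (center (P : Subgroup G)) := P.isPGroup'.center_nontrivial
  have h2 : IsPGroup p (center (P : Subgroup G)) := P.isPGroup'.to_subgroup _
  have h3 : p ∣ Nat.card (center (P : Subgroup G)) := by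
    obtain ⟨k, hk⟩ := IsPGroup.iff_card.1 h2
    rw [hk]
    apply dvd_pow_self
    rintro rfl
    rw [pow_zero] at hk
    have := Finite.one_lt_card_iff_nontrivial.2 h1
    omega
  obtain ⟨w, hw⟩ := exists_prime_orderOf_dvd_card' p h3
  refine ⟨((w : (P : Subgroup G)) : G), w.1.2, ?_, ?_, ?_⟩
  · intro h
    have h4 : w = 1 := Subtype.ext (Subtype.ext h)
    rw [h4, orderOf_one] at hw
    exact hp.out.one_lt.ne hw
  · have h4 : w ^ p = 1 := orderOf_dvd_iff_pow_eq_one.1 (dvd_of_eq hw)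
    have h5 := congrArg (fun w => (((w : center (P : Subgroup G)) : (P : Subgroup G)) : G)) h4
    simpa using h5
  · intro x hx
    exact congrArg Subtype.val (Subgroup.mem_center_iff.1 w.2 ⟨x, hx⟩)

/-- (e) -/
theorem no_min {p : ℕ} [hp : Fact p.Prime] (hI : p ≠ 2 → StI.{u} p) (hII : StII.{u} p)
    (G : Type u) [Group G] [Finite G] : ¬ MinS p G := by
  intro hM
  obtain ⟨P⟩ : Nonempty (Sylow p G) := inferInstance
  by_cases hc : IsCyclic (P : Subgroup G)
  · exact cyc hM P hc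
  by_cases hp2 : p = 2
  · subst hp2
    have hPb : (P : Subgroup G) ≠ ⊥ := by
      intro h
      apply hc
      rw [h]
      infer_instance
    obtain ⟨z, hz, hz1, hz2, hzc⟩ := exists_z P hPb
    by_cases hw : ∃ g : G, g * z * g⁻¹ ∈ (P : Subgroup G) ∧ g * z * g⁻¹ ∉ zpowers z
    · exact hII G hM P z hz hz1 hz2 hzc hw
    · push Not at hw
      exact two hM P hz1 hz2 hw
  · obtain ⟨B, z, hBP, hBn, hBc, hBnc, hzB, hz1, hzp, hzc⟩ := exists_B hp2 P hc
    by_cases hw : ∃ g : G, g * z * g⁻¹ ∈ (P : Subgroup G) ∧ g * z * g⁻¹ ∉ zpowers z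
    · exact hII G hM P z (hBP hzB) hz1 hzp hzc hw
    · push Not at hw
      exact hI hp2 G hM P z B hBP hBn hBc hBnc hzB hz1 hzc hw

/-- the theorem from Parts I and II -/
theorem main {p : ℕ} [hp : Fact p.Prime] (hI : p ≠ 2 → StI.{u} p) (hII : StII.{u} p)
    (G : Type u) [Group G] [Finite G] (P : Sylow p G) : IsPSolvable p G ↔
      ∀ g : G, IsPSolvable p ↥((P : Subgroup G) ⊔ (P : Subgroup G).map (MulAut.conj g).toMonoidHom) :=
  ⟨fun h _ => H76.isPSolvable_subgroup _ h, reduce (fun X _ _ => no_min hI hII X) G P⟩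

end Cfsg.Agent.H79.PP3
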