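import Cfsg.Agent.H31.PP.Defs
import Cfsg.Agent.Fus.PSol1
import Cfsg.Agent.H33.CycPSolv
import Cfsg.Agent.H4.Final
import Cfsg.Agent.S0126
import Cfsg.Agent.Solv.MinNormal

/-!
# Part III of S3019: reduction to the minimal situation
-/

set_option autoImplicit false
set_option linter.all false

namespace Cfsg.Agent.H79.PP3

open Subgroup Cfsg Cfsg.Agent.H31.PP

universe u

/-- the hypothesis on pairs of Sylow subgroups -/
def Hyp (p : ℕ) (G : Type u) [Group G] : Prop :=
  ∀ P Q : Sylow p G, IsPSolvable p ↥((P : Subgroup G) ⊔ (Q : Subgroup G))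

theorem psolv_mono {G : Type u} [Group G] {p : ℕ} [Fact p.Prime] {H K : Subgroup G} (h : H ≤ K)
    (hK : IsPSolvable p K) : IsPSolvable p H :=
  H76.isPSolvable_of_injective (inclusion h) (inclusion_injective h) hK

theorem Hyp.of_conj {G : Type u} [Group G] [Finite G] {p : ℕ} [Fact p.Prime] (P : Sylow p G)
    (h : ∀ g : G, IsPSolvable p ↥((P : Subgroup G) ⊔ (P : Subgroup G).map (MulAut.conj g).toMonoidHom)) :
    Hyp p G := by
  intro Q R
  obtain ⟨a, ha⟩ := MulAction.exists_smul_eq G P Q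
  obtain ⟨b, hb⟩ := MulAction.exists_smul_eq G P R
  have hQ : (Q : Subgroup G) = (P : Subgroup G).map (MulAut.conj a).toMonoidHom := by
    rw [← ha]; rfl
  have hR : (R : Subgroup G) = (P : Subgroup G).map (MulAut.conj b).toMonoidHom := by
    rw [← hb]; rfl
  have h1 := h (a⁻¹ * b)
  have h2 : (Q : Subgroup G) ⊔ (R : Subgroup G) =
      ((P : Subgroup G) ⊔ (P : Subgroup G).map (MulAut.conj (a⁻¹ * b)).toMonoidHom).map
        (MulAut.conj a).toMonoidHom := by
    rw [Subgroup.map_sup, Subgroup.map_map, hQ, hR]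
    congr 1
    congr 1
    ext x
    simp [mul_assoc]
  rw [h2]
  exact H76.isPSolvable_of_surjective ((MulAut.conj a).toMonoidHom.subgroupMap _)
    ((MulAut.conj a).toMonoidHom.subgroupMap_surjective _) h1

theorem Hyp.subgroup {G : Type u} [Group G] [Finite G] {p : ℕ} [Fact p.Prime] (h : Hyp p G)
    (H : Subgroup G) : Hyp p H := by
  intro P Q
  have hPp : IsPGroup p ↥((P : Subgroup H).map H.subtype) := P.isPGroup'.map _
  have hQp : IsPGroup p ↥((Q : Subgroup H).map H.subtype) := Q.isPGroup'.map _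
  obtain ⟨P', hP'⟩ := hPp.exists_le_sylow
  obtain ⟨Q', hQ'⟩ := hQp.exists_le_sylow
  have h1 := h P' Q'
  have h2 : ((P : Subgroup H) ⊔ (Q : Subgroup H)).map H.subtype ≤ (P' : Subgroup G) ⊔ (Q' : Subgroup G) := by
    rw [Subgroup.map_sup]
    exact sup_le_sup hP' hQ'
  have h3 := psolv_mono h2 h1
  exact H76.isPSolvable_of_injective
    (((P : Subgroup H) ⊔ (Q : Subgroup H)).equivMapOfInjective H.subtype H.subtype_injective).toMonoidHom
    (((P : Subgroup H) ⊔ (Q : Subgroup H)).equivMapOfInjective H.subtype H.subtype_injective).injective h3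

theorem Hyp.quotient {G : Type u} [Group G] [Finite G] {p : ℕ} [Fact p.Prime] (h : Hyp p G)
    (N : Subgroup G) [N.Normal] : Hyp p (G ⧸ N) := by
  intro P Q
  have hs : Function.Surjective (QuotientGroup.mk' N) := QuotientGroup.mk'_surjective N
  obtain ⟨P', hP'⟩ := Sylow.mapSurjective_surjective hs p P
  obtain ⟨Q', hQ'⟩ := Sylow.mapSurjective_surjective hs p Q
  have h1 := h P' Q'
  have h2 : (P : Subgroup (G ⧸ N)) ⊔ (Q : Subgroup (G ⧸ N)) =
      ((P' : Subgroup G) ⊔ (Q' : Subgroup G)).map (QuotientGroup.mk' N) := by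
    rw [Subgroup.map_sup, ← hP', ← hQ', Sylow.coe_mapSurjective, Sylow.coe_mapSurjective]
  rw [h2]
  exact H76.isPSolvable_of_surjective ((QuotientGroup.mk' N).subgroupMap _)
    ((QuotientGroup.mk' N).subgroupMap_surjective _) h1

theorem psolv_of_hyp {p : ℕ} [hp : Fact p.Prime]
    (hno : ∀ (X : Type u) [Group X] [Finite X], ¬ MinS p X) (n : ℕ) :
    ∀ (G : Type u) [Group G] [Finite G], Nat.card G = n → Hyp p G → IsPSolvable p G := by
  induction n using Nat.strong_induction_on with
  | _ n ih =>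
  intro G _ _ hcard h
  by_contra hG
  have hsub : ∀ H : Subgroup G, H ≠ ⊤ → IsPSolvable p H := by
    intro H hH
    refine ih (Nat.card H) ?_ H rfl (h.subgroup H)
    rw [← hcard]
    exact lt_of_le_of_ne (Nat.le_of_dvd Nat.card_pos (Subgroup.card_subgroup_dvd_card H))
      (fun h => hH (Subgroup.eq_top_of_card_eq H h))
  have hnt : Nontrivial G := by
    by_contra hnt
    rw [not_nontrivial_iff_subsingleton] at hnt
    apply hG
    refine Fus.PSol.isPSolvable_of_coprime ?_
    rw [Nat.card_unique]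
    exact Nat.coprime_one_left p
  refine hno G ⟨⟨fun N hN => ?_⟩, hG, hsub, ?_⟩
  · by_contra hcon
    push Not at hcon
    obtain ⟨hb, ht⟩ := hcon
    apply hG
    refine Fus.PSol.isPSolvable_ext (Nat.card N) N rfl (hsub N ht) ?_
    refine ih (Nat.card (G ⧸ N)) ?_ (G ⧸ N) rfl (h.quotient N)
    rw [← hcard, ← Subgroup.card_mul_index N, ← Subgroup.index_eq_card]
    have h1 : 1 < Nat.card N := by
      by_contra h
      exact hb ((Subgroup.card_le_one_iff_eq_bot N).1 (by omega))
    have h2 : 0 < N.index := Nat.pos_of_ne_zero Subgroup.index_ne_zero_of_finite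
    nlinarith
  · intro P Q hPQ
    apply hG
    have h1 := h P Q
    rw [hPQ] at h1
    exact H76.isPSolvable_of_injective (Subgroup.topEquiv (G := G)).symm.toMonoidHom
      (Subgroup.topEquiv (G := G)).symm.injective h1

/-- (a) -/
theorem reduce {p : ℕ} [hp : Fact p.Prime] (hno : ∀ (X : Type u) [Group X] [Finite X], ¬ MinS p X) :
    ∀ (G : Type u) [Group G] [Finite G] (P : Sylow p G),
      (∀ g : G, IsPSolvable p ↥((P : Subgroup G) ⊔ (P : Subgroup G).map (MulAut.conj g).toMonoidHom)) →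
      IsPSolvable p G :=
  fun G _ _ P h => psolv_of_hyp hno _ G rfl (Hyp.of_conj P h)

/-- (b) -/
theorem cyc {G : Type u} [Group G] [Finite G] {p : ℕ} [hp : Fact p.Prime] (hM : MinS p G) (P : Sylow p G)
    (hP : IsCyclic (P : Subgroup G)) : False := by
  apply hM.nps
  refine H33.cyc_pSolvable p (Nat.card G) G rfl ?_ ?_
  · intro Q
    haveI := hP
    have e := Sylow.equiv P Q
    exact isCyclic_of_surjective e e.surjective
  · intro x y hx hy
    have hsyl : ∀ x : G, orderOf x = p → ∃ Q : Sylow p G, x ∈ (Q : Subgroup G) := by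
      intro x hx
      have h1 : IsPGroup p (zpowers x) := IsPGroup.of_card (n := 1) (by rw [Nat.card_zpowers, hx, pow_one])
      obtain ⟨Q, hQ⟩ := h1.exists_le_sylow
      exact ⟨Q, hQ (mem_zpowers x)⟩
    obtain ⟨Q, hQ⟩ := hsyl x hx
    obtain ⟨R, hR⟩ := hsyl y hy
    have h1 := hM.sub _ (hM.pair Q R)
    refine psolv_mono ((closure_le _).2 ?_) h1
    rintro w (rfl | rfl)
    · exact mem_sup_left hQ
    · exact mem_sup_right hR

/-- (c) -/
theorem two {G : Type u} [Group G] [Finite G] (hM : MinS 2 G) (P : Sylow 2 G) {z : G}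
    (hz1 : z ≠ 1) (hz2 : z ^ 2 = 1)
    (hwc : ∀ g : G, g * z * g⁻¹ ∈ (P : Subgroup G) → g * z * g⁻¹ ∈ zpowers z) : False := by
  have hzo : orderOf z = 2 := orderOf_eq_prime hz2 hz1
  have hS := hM.simp
  have hzp : ∀ y ∈ zpowers z, y = 1 ∨ y = z := by
    intro y hy
    obtain ⟨k, rfl⟩ := mem_zpowers_iff.1 hy
    rcases Int.even_or_odd' k with ⟨m, rfl | rfl⟩
    · left
      rw [zpow_mul, zpow_ofNat, hz2, one_zpow]
    · right
      rw [zpow_add, zpow_mul, zpow_ofNat, hz2, one_zpow, one_mul, zpow_one]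
  have h1 := H4.zstar_sylow P hzo (fun g hg => by
    rcases hzp _ (hwc g hg) with h | h
    · exfalso
      apply hz1
      have : z = g⁻¹ * (g * z * g⁻¹) * g := by group
      rw [this, h]; group
    · exact h)
  have hnorm : (pPrimeCore 2 G).Normal := inferInstance
  rcases hS.eq_bot_or_eq_top_of_normal _ hnorm with hb | ht
  · -- `z` central
    have hc : ∀ g : G, g * z * g⁻¹ = z := by
      intro g
      have h2 := h1 g
      rw [hb, mem_bot] at h2
      have h3 : z * g = g * z := by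
        have := mul_inv_eq_one.1 h2
        have h4 : z * g * z⁻¹ = g := this
        calc z * g = z * g * z⁻¹ * z := by group
          _ = g * z := by rw [h4]
      rw [← h3]; group
    have hn : (zpowers z).Normal := by
      constructor
      intro n hn g
      rcases hzp n hn with rfl | rfl
      · simp
      · rw [hc g]; exact mem_zpowers _
    rcases hS.eq_bot_or_eq_top_of_normal _ hn with hb' | ht'
    · exact hz1 (zpowers_eq_bot.1 hb')
    · apply hM.nps
      refine Fus.PSol.isPSolvable_of_pgroup (m := 1) ?_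
      rw [pow_one, ← Subgroup.card_top, ← ht', Nat.card_zpowers, hzo]
  · have h2 : (Nat.card (pPrimeCore 2 G)).Coprime 2 := Solv.pPrimeCore_card_coprime 2
    rw [ht, Subgroup.card_top] at h2
    have h3 : 2 ∣ Nat.card G := by rw [← hzo]; exact orderOf_dvd_natCard z
    have := Nat.Coprime.eq_one_of_dvd h2.symm h3
    omega

/-- (d) -/
theorem exists_B {G : Type u} [Group G] [Finite G] {p : ℕ} [hp : Fact p.Prime] (hp2 : p ≠ 2) (P : Sylow p G)
    (hP : ¬ IsCyclic (P : Subgroup G)) : ∃ (B : Subgroup G) (z : G), B ≤ P ∧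
      (∀ x ∈ (P : Subgroup G), ∀ b ∈ B, x * b * x⁻¹ ∈ B) ∧ Nat.card B = p ^ 2 ∧ ¬ IsCyclic B ∧
      z ∈ B ∧ z ≠ 1 ∧ z ^ p = 1 ∧ (∀ x ∈ (P : Subgroup G), x * z = z * x) := by
  obtain ⟨A, hAn, hAe, hAc⟩ := S0126.result hp2 P.isPGroup' hP
  have hnt : Nontrivial A := by
    rw [← Finite.one_lt_card_iff_nontrivial, hAc]
    exact Nat.one_lt_pow (by norm_num) hp.out.one_lt
  -- a central element of `P` in `A`
  haveI : Group.IsNilpotent (P : Subgroup G) := P.isPGroup'.isNilpotent
  have hAb : A ≠ ⊥ := (Subgroup.nontrivial_iff_ne_bot A).1 hnt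
  have h1 := Solv.inf_center_ne_bot_of_nilpotent A hAb
  obtain ⟨⟨w, hw⟩, hw1⟩ := Subgroup.ne_bot_iff_exists_ne_one.mp h1
  have hw1' : w ≠ 1 := fun h => hw1 (Subtype.ext h)
  have hinj := (P : Subgroup G).subtype_injective
  refine ⟨A.map (P : Subgroup G).subtype, (w : G), Subgroup.map_subtype_le A, ?_, ?_, ?_, ⟨w, hw.1, rfl⟩, ?_, ?_, ?_⟩
  · rintro x hx b ⟨b, hb, rfl⟩
    exact ⟨⟨x, hx⟩ * b * ⟨x, hx⟩⁻¹, hAn.conj_mem b hb ⟨x, hx⟩, rfl⟩
  · rw [Subgroup.card_map_of_injective hinj, hAc]
  · intro hc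
    have h2 : IsCyclic A := isCyclic_of_injective
      (A.equivMapOfInjective (P : Subgroup G).subtype hinj).toMonoidHom
      (A.equivMapOfInjective (P : Subgroup G).subtype hinj).injective
    obtain ⟨a, ha⟩ := h2.exists_generator
    have h3 : Nat.card A = orderOf a := by
      rw [← Nat.card_zpowers]
      have : zpowers a = ⊤ := (Subgroup.eq_top_iff' _).2 ha
      rw [this, Subgroup.card_top]
    have h4 : orderOf a ∣ p := by
      apply orderOf_dvd_of_pow_eq_one
      apply Subtype.ext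
      exact hAe.2 a a.2
    rw [← h3, hAc] at h4
    have h5 := Nat.le_of_dvd hp.out.pos h4
    have h6 := hp.out.one_lt
    nlinarith
  · intro h
    exact hw1' (Subtype.ext h)
  · have := hAe.2 w hw.1
    rw [← Subgroup.coe_pow, this, Subgroup.coe_one]
  · intro x hx
    have := Subgroup.mem_center_iff.1 hw.2 ⟨x, hx⟩
    exact congrArg Subtype.val this

end Cfsg.Agent.H79.PP3
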